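import Groth.Agent.AlgStLib.Inertia
import Groth.Agent.AlgStLib.QcMor
import Groth.Agent.AlgSpLib.FiniteNhd
import Groth.Agent.AlgSpLib.SepLqfScheme

/-!
# Inertia over a space and over the base
-/

set_option autoImplicit false
set_option backward.isDefEq.respectTransparency false
set_option backward.isDefEq.respectTransparency.types false

universe u

open CategoryTheory CategoryTheory.Limits AlgebraicGeometry Opposite AlgSp FibCat FibLib AlgSpLib AlgStLib

noncomputable section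

namespace DiagQAffLib

variable {S : Scheme.{u}} {𝒳 : AlgSt.Cat S} {M : Sp S} (π : 𝒳 ⥤ᵇ AlgSt.ofSp M)

lemma map_eq_id_iff {x : 𝒳.obj} (a : x ⟶ x) :
    π.map a = 𝟙 (π.obj x) ↔ (FibCat.toSelf 𝒳).map a = 𝟙 ((FibCat.toSelf 𝒳).obj x) := by
  have e : 𝒳.p.map a = eqToHom (π.w_obj x).symm ≫ (π.map a).hom ≫ eqToHom (π.w_obj x) := by
    simpa using Functor.congr_hom π.w.symm a
  constructor
  · intro h
    change 𝒳.p.map a = 𝟙 (𝒳.p.obj x)
    rw [e, h]
    change eqToHom _ ≫ 𝟙 _ ≫ eqToHom _ = _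
    simp
  · intro h
    apply Stk.EltObj.hom_ext
    change (π.map a).hom = 𝟙 (π.obj x).base
    have h' : 𝒳.p.map a = 𝟙 (𝒳.p.obj x) := h
    rw [e] at h'
    rw [← cancel_epi (eqToHom (π.w_obj x).symm), ← cancel_mono (eqToHom (π.w_obj x)), Category.assoc, h']
    simp

/-- The inertia over a space is the inertia over the base. -/
def inertiaSelf : inertia π ⥤ᵇ inertia (FibCat.toSelf 𝒳) where
  toFunctor :=
    { obj := fun x => ⟨x.pt, x.aut, (map_eq_id_iff π x.aut.hom).1 x.map_aut⟩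
      map := fun f => ⟨f.hom, f.comm⟩ }
  w := rfl

lemma isEquivOver_inertiaSelf : IsEquivOver (inertiaSelf π) := by
  haveI : (inertiaSelf π).toFunctor.Faithful := ⟨fun {_ _ _ _} h => InertiaObj.hom_ext (congrArg (fun t => t.hom) h)⟩
  haveI : (inertiaSelf π).toFunctor.Full := ⟨fun f => ⟨⟨f.hom, f.comm⟩, InertiaObj.hom_ext rfl⟩⟩
  exact isEquivOver_of_vertEssSurj _ fun η =>
    ⟨⟨η.pt, η.aut, (map_eq_id_iff π η.aut.hom).2 η.map_aut⟩, Iso.refl _, IsHomLift.id rfl⟩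

theorem repByAlgSpWith_finite_inertia {K : Precoverage Scheme.{u}} (h𝒳 : AlgSt.IsAlgStack K 𝒳)
    (hqf : AlgSt.IsQuasiDMOver 𝒳) (hM : IsAlgSpace M) (hsep : AlgSt.IsSeparatedMor π) :
    AlgSt.RepByAlgSpWith IsFiniteMor (inertiaToBase (FibCat.toSelf 𝒳)) := by
  haveI := isFibGrpd_of_isAlgStack h𝒳
  haveI : IsFibGrpd (AlgSt.ofSp M).p := Stk.isFibGrpd_ofPsh _
  haveI : IsFibGrpd (fp π π).p := isFibGrpd_fp
  have h1 : AlgSt.RepByAlgSpWith (LocP (@LocallyQuasiFinite ⊓ @LocallyOfFiniteType)) (FibCat.diag π) :=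
    repByAlgSpWith_diag_of_comp good_lqf.bc (repByAlgSpWith_diag_congr (compToSelfIso π) hqf)
      (repByAlgSpWith_lft_diag_toSelf (isAlgStack_ofSp hM)) fun _ _ _ h₁ h₂ h₃ _ _ hab _ => cancel_lqf h₁ h₂ h₃ hab
  have h2 : AlgSt.RepByAlgSpWith IsFiniteMor (FibCat.diag π) :=
    repByAlgSpWith_of_forall (repByAlgSp1_of_with h1) fun U _ H _ hH ha =>
      isFiniteMor_of_proper_lqf hH (IsAlgSpace.yon_obj U) (prop_of_along good_proper.bc.precomp_iso hsep ha)
        (prop_of_along good_lqf.bc.precomp_iso h1 ha)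
  refine (repByAlgSpWith_square_iff (f := inertiaToBase (FibCat.toSelf 𝒳)) (f' := inertiaToBase π)
    (a := inertiaSelf π) (b := BasedFunctor.id _) (isEquivOver_inertiaSelf π) (isEquivOver_id _) (Iso.refl _) _).mpr ?_
  exact (repByAlgSpWith_inertiaToBase_iff π _).2 (repByAlgSpWith_fpFst _ (FibCat.diag π) h2)

end DiagQAffLib
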