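import Groth.Agent.AlgStLib.Rows4
import Groth.Agent.AlgStLib.UnivTop
import Groth.Agent.AlgSpLib.SepLqfScheme
import Groth.Agent.AlgSpLib.RepDescent
import Groth.Agent.AlgSpLib.FpqcMore

/-!
# The diagonal of a Deligne–Mumford stack with separated quasi-compact diagonal is quasi-affine
-/

set_option autoImplicit false
set_option backward.isDefEq.respectTransparency false
set_option backward.isDefEq.respectTransparency.types false

universe u

open CategoryTheory CategoryTheory.Limits AlgebraicGeometry Opposite AlgSp FibCat FibLib AlgSpLib AlgStLib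

noncomputable section

namespace DiagQAffLib

variable {S : Scheme.{u}} {𝒳 : AlgSt.Cat S} {K : Precoverage Scheme.{u}}

/-- The diagonal of a Deligne–Mumford stack is locally quasi-finite. -/
theorem repByAlgSpWith_lqf_diag_toSelf (h : AlgSt.IsDM K 𝒳) :
    AlgSt.RepByAlgSpWith (LocP (@LocallyQuasiFinite ⊓ @LocallyOfFiniteType)) (FibCat.diag (FibCat.toSelf 𝒳)) := by
  haveI := isFibGrpd_of_isAlgStack h.1
  obtain ⟨U, x, hx, hxs⟩ := h.2
  have m : ∀ (Q : MorphismProperty Scheme.{u}), (@Etale : MorphismProperty Scheme.{u}) ≤ Q →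
      AlgSt.RepByAlgSpWith (LocP Q) x := fun Q hQ =>
    repByAlgSpWith_mono (fun _ _ a _ _ ha => locP_mono hQ (locP_etale_of_isEtaleMor ha)) hx
  haveI : MorphismProperty.DescendsAlong (@LocallyQuasiFinite ⊓ @LocallyOfFiniteType : MorphismProperty Scheme.{u})
      (@Surjective ⊓ @Flat ⊓ @QuasiCompact) := descendsAlong_inf
  refine repByAlgSpWith_diag_toSelf_of_cover good_lqf.bc
    (isLocalOnBase_fppf_of_fpqc (isLocalOnBase_fpqc_locP_of_descendsAlong S _))
    (fun _ _ _ h₁ h₂ h₃ _ _ hab => cancel_lqf h₁ h₂ h₃ hab) h.1.diag (repByAlgSp_overCat U) x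
    (m _ fun _ _ f hf => ?_) (m _ fun _ _ f hf => ?_) hxs (m _ fun _ _ f hf => ?_)
  · haveI : Etale f := hf
    exact (inferInstance : Flat f)
  · haveI : Etale f := hf
    exact (inferInstance : LocallyOfFinitePresentation f)
  · haveI : Etale f := hf
    exact ⟨locallyQuasiFinite_of_etale f, (inferInstance : LocallyOfFiniteType f)⟩

/-- Separated, quasi-compact and locally quasi-finite morphisms are quasi-affine. -/
theorem isQuasiAffineMor_of_sep_qc_lqf {F G : Sp S} (hF : IsAlgSpace F) (hG : IsAlgSpace G) {f : F ⟶ G}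
    (hsep : IsSeparatedMor f) (hqc : IsQuasiCompactMor f)
    (hqf : LocP (@LocallyQuasiFinite ⊓ @LocallyOfFiniteType) f) : IsQuasiAffineMor f := by
  have hr := representable_of_sep_lqf hF hG hsep hqf
  have hs : RepWith @IsSeparated f := (repWith_diagonal_iff (P := @IsClosedImmersion) (Q := @IsSeparated)
    (fun g => ⟨fun h => ⟨h⟩, fun h => h.1⟩) hr).1 hsep
  intro Z hZ g
  haveI := hZ
  have sq := hr.isPullback g
  haveI : IsSeparated (hr.snd g).left := hs.property g _ _ sq
  haveI : QuasiCompact (hr.snd g).left :=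
    ((repWith_quasiCompact_iff hF hG hr).2 hqc).property g _ _ sq
  obtain ⟨h1, h2⟩ := (repWith_of_locP hG hr hqf).property g _ _ sq
  haveI : LocallyQuasiFinite (hr.snd g).left := h1
  haveI : LocallyOfFiniteType (hr.snd g).left := h2
  exact ⟨_, hr.snd g, _, sq, quasiAffine_of_lqf (hr.snd g).left⟩

theorem repByAlgSpWith_isQuasiAffineMor_diag (h : AlgSt.IsDM K 𝒳)
    (hsep : AlgSt.RepByAlgSpWith IsSeparatedMor (FibCat.diag (FibCat.toSelf 𝒳)))
    (hqc : AlgSt.RepByAlgSpWith IsQuasiCompactMor (FibCat.diag (FibCat.toSelf 𝒳))) :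
    AlgSt.RepByAlgSpWith IsQuasiAffineMor (FibCat.diag (FibCat.toSelf 𝒳)) :=
  repByAlgSpWith_of_forall h.1.diag fun U _ H _ hH ha =>
    isQuasiAffineMor_of_sep_qc_lqf hH (IsAlgSpace.yon_obj U)
      (prop_of_along good_separated.bc.precomp_iso hsep ha) (prop_of_along good_qc.bc.precomp_iso hqc ha)
      (prop_of_along good_lqf.bc.precomp_iso (repByAlgSpWith_lqf_diag_toSelf h) ha)

end DiagQAffLib
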